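import Groth.Agent.DerLib.RightRes

/-!
# Complexes of objects of dimension zero
-/

set_option autoImplicit false
set_option linter.unusedSectionVars false
set_option linter.style.haveILetI false

universe v u

open CategoryTheory CategoryTheory.Limits HomologicalComplex
open Groth.Agent.DerLib.RightRes (pushout_exact)
open scoped ZeroObject

namespace DimZeroLib

variable {A : Type u} [Category.{v} A] [Abelian A]

/-- The data replacing the terms of a complex. -/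
structure Data (K : CochainComplex A ℤ) where
  /-- the part to embed -/
  M : ℤ → A
  /-- its image -/
  Y : ℤ → A
  /-- the new part -/
  W : ℤ → A
  /-- inclusion -/
  j : ∀ n, M n ⟶ K.X n
  /-- embedding -/
  ι : ∀ n, M n ⟶ Y n
  /-- first leg -/
  w : ∀ n, K.X n ⟶ W n
  /-- second leg -/
  v : ∀ n, Y n ⟶ W n
  /-- pushout square -/
  sq : ∀ n, IsPushout (j n) (ι n) (w n) (v n)
  mono_ι : ∀ n, Mono (ι n)

namespace Data

variable {K : CochainComplex A ℤ} (𝒟 : Data K)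

/-- The new terms. -/
noncomputable abbrev P (n : ℤ) : A :=
  pushout (𝒟.j (n - 1) ≫ K.d (n - 1) n ≫ 𝒟.w n) (𝒟.ι (n - 1))

/-- The first inclusion. -/
noncomputable def inl (n : ℤ) : 𝒟.W n ⟶ 𝒟.P n := pushout.inl _ _

/-- The second inclusion. -/
noncomputable def inr (i k : ℤ) (h : i + 1 = k) : 𝒟.Y i ⟶ 𝒟.P k :=
  eqToHom (congrArg 𝒟.Y (by omega)) ≫ pushout.inr _ _

theorem cond (i k : ℤ) (h : i + 1 = k) :
    𝒟.j i ≫ K.d i k ≫ 𝒟.w k ≫ 𝒟.inl k = 𝒟.ι i ≫ 𝒟.inr i k h := by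
  obtain rfl : i = k - 1 := by omega
  simpa [inl, inr, P] using pushout.condition (f := 𝒟.j (k - 1) ≫ K.d (k - 1) k ≫ 𝒟.w k) (g := 𝒟.ι (k - 1))

/-- The differential on the first part. -/
noncomputable def δ (n k : ℤ) (h : n + 1 = k) : 𝒟.W n ⟶ 𝒟.P k :=
  (𝒟.sq n).desc (K.d n k ≫ 𝒟.w k ≫ 𝒟.inl k) (𝒟.inr n k h) (𝒟.cond n k h)

@[reassoc]
theorem w_δ (n k : ℤ) (h : n + 1 = k) : 𝒟.w n ≫ 𝒟.δ n k h = K.d n k ≫ 𝒟.w k ≫ 𝒟.inl k :=
  (𝒟.sq n).inl_desc _ _ _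

@[reassoc]
theorem v_δ (n k : ℤ) (h : n + 1 = k) : 𝒟.v n ≫ 𝒟.δ n k h = 𝒟.inr n k h :=
  (𝒟.sq n).inr_desc _ _ _

/-- The differential. -/
noncomputable def d (n k : ℤ) (h : n + 1 = k) : 𝒟.P n ⟶ 𝒟.P k :=
  pushout.desc (𝒟.δ n k h) 0 (by simp [w_δ])

@[reassoc]
theorem inl_d (n k : ℤ) (h : n + 1 = k) : 𝒟.inl n ≫ 𝒟.d n k h = 𝒟.δ n k h :=
  pushout.inl_desc _ _ _

@[reassoc]
theorem inr_d (i n k : ℤ) (h' : i + 1 = n) (h : n + 1 = k) : 𝒟.inr i n h' ≫ 𝒟.d n k h = 0 := by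
  rw [inr, d, Category.assoc, pushout.inr_desc, comp_zero]

theorem d_d (n k l : ℤ) (h : n + 1 = k) (h' : k + 1 = l) : 𝒟.d n k h ≫ 𝒟.d k l h' = 0 := by
  apply pushout.hom_ext
  · rw [comp_zero]
    show 𝒟.inl n ≫ _ = 0
    rw [inl_d_assoc]
    apply (𝒟.sq n).hom_ext
    · rw [w_δ_assoc, inl_d, w_δ, ← Category.assoc (K.d n k), K.d_comp_d, zero_comp, comp_zero]
    · rw [v_δ_assoc, inr_d, comp_zero]
  · rw [d, pushout.inr_desc_assoc, zero_comp, comp_zero]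

/-- The new complex. -/
noncomputable def cx : CochainComplex A ℤ where
  X := 𝒟.P
  d n k := if h : n + 1 = k then 𝒟.d n k h else 0
  shape n k h := dif_neg h
  d_comp_d' n k l (h : n + 1 = k) (h' : k + 1 = l) := by rw [dif_pos h, dif_pos h', d_d]

theorem cx_d (n k : ℤ) (h : n + 1 = k) : 𝒟.cx.d n k = 𝒟.d n k h := dif_pos h

/-- The comparison. -/
noncomputable def φ : K ⟶ 𝒟.cx where
  f n := 𝒟.w n ≫ 𝒟.inl n
  comm' n k (h : n + 1 = k) := by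
    rw [cx_d _ n k h]
    show (𝒟.w n ≫ 𝒟.inl n) ≫ 𝒟.d n k h = K.d n k ≫ 𝒟.w k ≫ 𝒟.inl k
    rw [Category.assoc, inl_d, w_δ]

theorem mono_w (n : ℤ) : Mono (𝒟.w n) :=
  haveI := 𝒟.mono_ι n
  Abelian.mono_inl_of_isColimit _ _ (𝒟.sq n).isColimit

theorem mono_inl (n : ℤ) : Mono (𝒟.inl n) :=
  haveI := 𝒟.mono_ι (n - 1)
  inferInstanceAs (Mono (pushout.inl _ _))

theorem refine_W (n : ℤ) {T : A} (a : T ⟶ 𝒟.W n) :
    ∃ (T' : A) (π : T' ⟶ T) (_ : Epi π) (x : T' ⟶ K.X n) (c : T' ⟶ 𝒟.Y n),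
      π ≫ a = x ≫ 𝒟.w n + c ≫ 𝒟.v n := by
  haveI : Epi (biprod.desc (𝒟.w n) (𝒟.v n)) := (𝒟.sq n).epi_shortComplex_g
  obtain ⟨T', π, hπ, q, hq⟩ := surjective_up_to_refinements_of_epi (biprod.desc (𝒟.w n) (𝒟.v n)) a
  exact ⟨T', π, hπ, q ≫ biprod.fst, q ≫ biprod.snd, by rw [hq, biprod.desc_eq, Preadditive.comp_add]; simp⟩

theorem refine_P (i n : ℤ) (h : i + 1 = n) {T : A} (a : T ⟶ 𝒟.P n) :
    ∃ (T' : A) (π : T' ⟶ T) (_ : Epi π) (x : T' ⟶ K.X n) (c : T' ⟶ 𝒟.Y n) (b : T' ⟶ 𝒟.Y i),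
      π ≫ a = x ≫ 𝒟.w n ≫ 𝒟.inl n + c ≫ 𝒟.v n ≫ 𝒟.inl n + b ≫ 𝒟.inr i n h := by
  obtain rfl : i = n - 1 := by omega
  haveI : Epi (biprod.desc (𝒟.inl n) (𝒟.inr (n - 1) n h)) := by
    have : 𝒟.inr (n - 1) n h = pushout.inr _ _ := by simp [inr]
    rw [this]
    exact (IsPushout.of_hasPushout _ _).epi_shortComplex_g
  obtain ⟨T₁, π₁, hπ₁, q, hq⟩ := surjective_up_to_refinements_of_epi (biprod.desc (𝒟.inl n) (𝒟.inr (n - 1) n h)) a
  obtain ⟨T₂, π₂, hπ₂, x, c, hx⟩ := 𝒟.refine_W n (q ≫ biprod.fst)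
  refine ⟨T₂, π₂ ≫ π₁, inferInstance, x, c, π₂ ≫ q ≫ biprod.snd, ?_⟩
  rw [Category.assoc, hq, biprod.desc_eq]
  simp only [Preadditive.comp_add, ← Category.assoc]
  congr 1
  rw [Category.assoc _ q biprod.fst, hx]
  simp only [Preadditive.add_comp, Category.assoc]

/-- The relation in a new term. -/
theorem eq_of_comp (n k : ℤ) (h : n + 1 = k) {T : A} (x : T ⟶ K.X k) (c : T ⟶ 𝒟.Y n)
    (e : x ≫ 𝒟.w k ≫ 𝒟.inl k + c ≫ 𝒟.inr n k h = 0) :
    ∃ (T' : A) (π : T' ⟶ T) (_ : Epi π) (q : T' ⟶ 𝒟.M n),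
      π ≫ x = q ≫ 𝒟.j n ≫ K.d n k ∧ π ≫ c = -(q ≫ 𝒟.ι n) := by
  obtain rfl : n = k - 1 := by omega
  have hi : 𝒟.inr (k - 1) k h = pushout.inr (𝒟.j (k - 1) ≫ K.d (k - 1) k ≫ 𝒟.w k) (𝒟.ι (k - 1)) := by
    simp [inr]
  rw [hi, ← Category.assoc x] at e
  obtain ⟨T', π, hπ, q, h1, h2⟩ := pushout_exact _ _ (x ≫ 𝒟.w k) c e
  haveI := 𝒟.mono_w k
  refine ⟨T', π, hπ, q, ?_, h2⟩
  rw [← cancel_mono (𝒟.w k)]
  simpa using h1

theorem quasiIso_φ : QuasiIso 𝒟.φ := by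
  rw [quasiIso_iff]
  intro n
  rw [quasiIsoAt_iff_isIso_homologyMap]
  have hp : n - 1 + 1 = n := by omega
  haveI : Mono (homologyMap 𝒟.φ n) := by
    rw [mono_homologyMap_iff_up_to_refinements _ (n - 1) n (n + 1) (by simp) (by simp)]
    intro T x hx (y : T ⟶ 𝒟.P (n - 1)) hy
    change x ≫ 𝒟.w n ≫ 𝒟.inl n = y ≫ 𝒟.cx.d (n - 1) n at hy
    rw [cx_d _ _ _ hp] at hy
    change x ≫ 𝒟.w n ≫ 𝒟.inl n = y ≫ 𝒟.d (n - 1) n hp at hy
    obtain ⟨T₁, π₁, hπ₁, a, c, b, hy'⟩ := 𝒟.refine_P (n - 2) (n - 1) (by omega) y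
    have h1 : (π₁ ≫ x - a ≫ K.d (n - 1) n) ≫ 𝒟.w n ≫ 𝒟.inl n + (-c) ≫ 𝒟.inr (n - 1) n hp = 0 := by
      have h2 := congrArg (π₁ ≫ ·) hy
      simp only [← Category.assoc π₁ y, hy', Preadditive.add_comp, Category.assoc, inl_d, inr_d, comp_zero,
        add_zero, w_δ, v_δ] at h2
      simp only [Preadditive.sub_comp, Preadditive.neg_comp, Category.assoc]
      rw [h2]
      abel
    obtain ⟨T₂, π₂, hπ₂, q, h3, -⟩ := 𝒟.eq_of_comp (n - 1) n hp _ _ h1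
    refine ⟨T₂, π₂ ≫ π₁, inferInstance, q ≫ 𝒟.j (n - 1) + π₂ ≫ a, ?_⟩
    rw [Preadditive.comp_sub, sub_eq_iff_eq_add] at h3
    rw [Category.assoc, h3, Preadditive.add_comp, Category.assoc, Category.assoc]
  haveI : Epi (homologyMap 𝒟.φ n) := by
    rw [epi_homologyMap_iff_up_to_refinements _ (n - 1) n (n + 1) (by simp) (by simp)]
    intro T (z : T ⟶ 𝒟.P n) hz
    change z ≫ 𝒟.cx.d n (n + 1) = 0 at hz
    rw [cx_d _ _ _ rfl] at hz
    change z ≫ 𝒟.d n (n + 1) rfl = (0 : T ⟶ 𝒟.P (n + 1)) at hz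
    obtain ⟨T₁, π₁, hπ₁, x, c, b, hz'⟩ := 𝒟.refine_P (n - 1) n hp z
    have h1 : (x ≫ K.d n (n + 1)) ≫ 𝒟.w (n + 1) ≫ 𝒟.inl (n + 1) + c ≫ 𝒟.inr n (n + 1) rfl = 0 := by
      have h2 := congrArg (π₁ ≫ ·) hz
      simp only [← Category.assoc π₁ z, hz', Preadditive.add_comp, Category.assoc, inl_d, inr_d, comp_zero,
        add_zero, w_δ, v_δ] at h2
      simpa using h2
    obtain ⟨T₂, π₂, hπ₂, q, h3, h4⟩ := 𝒟.eq_of_comp n (n + 1) rfl _ _ h1
    refine ⟨T₂, π₂ ≫ π₁, inferInstance, π₂ ≫ x - q ≫ 𝒟.j n, ?_,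
      π₂ ≫ b ≫ 𝒟.v (n - 1) ≫ 𝒟.inl (n - 1), ?_⟩
    · rw [Preadditive.sub_comp, Category.assoc, Category.assoc, h3, sub_self]
    · rw [cx_d _ _ _ hp]
      change (π₂ ≫ π₁) ≫ z = ((π₂ ≫ x - q ≫ 𝒟.j n) ≫ 𝒟.w n ≫ 𝒟.inl n +
        (π₂ ≫ b ≫ 𝒟.v (n - 1) ≫ 𝒟.inl (n - 1)) ≫ 𝒟.d (n - 1) n hp : T₂ ⟶ 𝒟.P n)
      simp only [Category.assoc, inl_d, v_δ, Preadditive.sub_comp]
      rw [hz', Preadditive.comp_add, Preadditive.comp_add]
      simp only [← Category.assoc]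
      rw [h4]
      simp only [Preadditive.neg_comp, Category.assoc, ← (𝒟.sq n).w_assoc]
      abel
  exact isIso_of_mono_of_epi _

end Data

variable (d : A → ℕ∞) (hiso : ∀ ⦃X Y : A⦄, Nonempty (X ≅ Y) → d X = d Y)
  (h1 : ∀ X : A, ∃ (Y : A) (ι : X ⟶ Y), Mono ι ∧ d Y = 0)
  (h2 : ∀ X Y : A, d (X ⊞ Y) ≤ max (d X) (d Y))
  (h3 : ∀ S : ShortComplex A, S.ShortExact → d S.X₃ ≤ max (d S.X₁ - 1) (d S.X₂))

include h1 h3 in
theorem d_isZero {Z : A} (hZ : IsZero Z) : d Z = 0 := by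
  obtain ⟨Y, -, -, hY⟩ := h1 Z
  let S := ShortComplex.mk (𝟙 Y) (0 : Y ⟶ Z) (by simp)
  haveI : Epi (0 : Y ⟶ Z) := ⟨fun g h _ => hZ.eq_of_src g h⟩
  have hS : S.ShortExact :=
    { exact := S.exact_of_f_is_kernel (KernelFork.IsLimit.ofId _ (by rfl))
      mono_f := inferInstanceAs (Mono (𝟙 Y))
      epi_g := inferInstanceAs (Epi (0 : Y ⟶ Z)) }
  exact le_antisymm (by simpa [S, hY] using h3 S hS) bot_le

include hiso h1 h2 h3 in
theorem exists_step (K : CochainComplex A ℤ) :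
    ∃ (K' : CochainComplex A ℤ) (φ : K ⟶ K'), QuasiIso φ ∧
      (∀ n, d (K'.X n) ≤ d (K.X (n - 1)) - 1) ∧
      (∀ n, d (K.X n) = 0 → d (K.X (n - 1)) = 0 → IsIso (φ.f n)) := by
  classical
  choose E ι hι hE using h1
  let M : ℤ → A := fun n => if d (K.X n) = 0 then 0 else K.X n
  have hM : ∀ n, d (M n) ≤ d (K.X n) := fun n => by
    by_cases h : d (K.X n) = 0
    · simp only [M, if_pos h]; rw [d_isZero d (fun X => ⟨E X, ι X, hι X, hE X⟩) h3 (isZero_zero A)]; exact bot_le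
    · simp only [M, if_neg h]; exact le_rfl
  have hdata : ∀ n, ∃ (Y W : A) (j : M n ⟶ K.X n) (i : M n ⟶ Y) (w : K.X n ⟶ W) (v : Y ⟶ W),
      IsPushout j i w v ∧ Mono i ∧ d Y = 0 ∧ d W = 0 ∧ (d (K.X n) = 0 → IsIso w ∧ IsZero (M n) ∧ IsZero Y) := fun n => by
    by_cases h : d (K.X n) = 0
    · have hz : IsZero (M n) := by simp only [M, if_pos h]; exact isZero_zero A
      refine ⟨0, K.X n, 0, 0, 𝟙 _, 0, ?_, ⟨fun a b _ => hz.eq_of_tgt a b⟩,
        d_isZero d (fun X => ⟨E X, ι X, hι X, hE X⟩) h3 (isZero_zero A), h,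
        fun _ => ⟨inferInstance, hz, isZero_zero A⟩⟩
      haveI : IsIso (0 : M n ⟶ (0 : A)) := ⟨0, hz.eq_of_src _ _, (isZero_zero A).eq_of_src _ _⟩
      exact IsPushout.of_vert_isIso ⟨hz.eq_of_src _ _⟩
    · have e : M n = K.X n := if_neg h
      refine ⟨E (K.X n), E (K.X n), eqToHom e, eqToHom e ≫ ι _, ι _, 𝟙 _, ?_, ?_, hE _, hE _, fun h' => absurd h' h⟩
      · exact IsPushout.of_horiz_isIso ⟨by simp⟩
      · haveI := hι (K.X n); infer_instance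
  choose Y W j i w v hsq hi hY hW hzero using hdata
  let 𝒟 : Data K := ⟨M, Y, W, j, i, w, v, hsq, hi⟩
  refine ⟨𝒟.cx, 𝒟.φ, 𝒟.quasiIso_φ, fun n => ?_, fun n h h' => ?_⟩
  · haveI := 𝒟.mono_ι (n - 1)
    let sqP := IsPushout.of_hasPushout (𝒟.j (n - 1) ≫ K.d (n - 1) n ≫ 𝒟.w n) (𝒟.ι (n - 1))
    haveI : Mono sqP.shortComplex.f := by
      refine ⟨fun a b hab => (cancel_mono (𝒟.ι (n - 1))).1 ?_⟩
      have h' := congrArg (fun f => f ≫ biprod.snd) hab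
      simp only [CommSq.shortComplex, Category.assoc, biprod.lift_snd, Preadditive.comp_neg, neg_inj] at h'
      exact h'
    have hS : sqP.shortComplex.ShortExact :=
      { exact := sqP.exact_shortComplex
        mono_f := inferInstance
        epi_g := sqP.epi_shortComplex_g }
    refine (h3 _ hS).trans (max_le ?_ ?_)
    · exact tsub_le_tsub_right (hM (n - 1)) 1
    · exact (h2 _ _).trans (by simp [𝒟, hW, hY])
  · obtain ⟨hw, -, -⟩ := hzero n h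
    obtain ⟨-, hz, hzY⟩ := hzero (n - 1) h'
    haveI : IsIso (𝒟.inl n) := by
      haveI : IsIso (𝒟.ι (n - 1)) := ⟨0, hz.eq_of_src _ _, hzY.eq_of_src _ _⟩
      exact inferInstanceAs (IsIso (pushout.inl _ _))
    haveI : IsIso (𝒟.w n) := hw
    exact inferInstanceAs (IsIso (𝒟.w n ≫ 𝒟.inl n))

include hiso h1 h2 h3 in
theorem exists_dim_zero (K : CochainComplex A ℤ)
    (hK : ∀ m : ℤ, ∃ N : ℤ, ∀ n : ℤ, n ≤ N → ∃ k : ℕ, d (K.X n) = k ∧ n + k ≤ m) :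
    ∃ (L : CochainComplex A ℤ) (f : K ⟶ L), QuasiIso f ∧ ∀ n, d (L.X n) = 0 := by
  choose S φ hq hd hi using exists_step d hiso h1 h2 h3
  let C : ℕ → CochainComplex A ℤ := fun r => Nat.rec K (fun _ L => S L) r
  let F : ℕ ⥤ CochainComplex A ℤ := Functor.ofSequence (X := C) fun r => φ (C r)
  have hsucc : ∀ r, F.map (homOfLE (Nat.le_succ r)) = φ (C r) := Functor.ofSequence_map_homOfLE_succ _
  have hdim : ∀ (r : ℕ) (n : ℤ), d ((C r).X n) ≤ d (K.X (n - r)) - (r : ℕ) := by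
    intro r
    induction r with
    | zero => intro n; simp [C]
    | succ r ih =>
      intro n
      refine (hd (C r) n).trans ((tsub_le_tsub_right (ih (n - 1)) 1).trans (le_of_eq ?_))
      rw [tsub_tsub, show n - 1 - (r : ℤ) = n - ((r + 1 : ℕ) : ℤ) by omega]
      push_cast
      rfl
  have hR : ∀ n : ℤ, ∃ R : ℕ, ∀ r, R ≤ r → d ((C r).X n) = 0 := fun n => by
    obtain ⟨N, hN⟩ := hK n
    refine ⟨(n - N).toNat, fun r hr => le_antisymm ((hdim r n).trans ?_) bot_le⟩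
    obtain ⟨k, hk, hk'⟩ := hN (n - r) (by omega)
    rw [hk, tsub_le_iff_right, zero_add]
    exact Nat.cast_le.2 (by omega)
  choose R hR using hR
  have hconst : ∀ n, (F ⋙ eval A (ComplexShape.up ℤ) n).IsEventuallyConstantFrom (max (R n) (R (n - 1))) := by
    intro n j f
    have hj := leOfHom f
    show IsIso _
    obtain rfl : f = homOfLE hj := Subsingleton.elim _ _
    induction j, hj using Nat.le_induction with
    | base => exact inferInstanceAs (IsIso ((F ⋙ eval A (ComplexShape.up ℤ) n).map (𝟙 _)))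
    | succ j hj ih =>
      rw [← homOfLE_comp hj (Nat.le_succ j), Functor.map_comp]
      haveI : IsIso ((F ⋙ eval A (ComplexShape.up ℤ) n).map (homOfLE (Nat.le_succ j))) := by
        show IsIso ((F.map (homOfLE (Nat.le_succ j))).f n)
        rw [hsucc]
        exact hi (C j) n (hR n j (le_trans (le_max_left _ _) hj)) (hR (n - 1) j (le_trans (le_max_right _ _) hj))
      infer_instance
  haveI : ∀ n, HasColimit (F ⋙ eval A (ComplexShape.up ℤ) n) := fun n => (hconst n).hasColimit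
  let c := HomologicalComplex.coconeOfHasColimitEval F
  have hc : ∀ n, IsColimit ((eval A (ComplexShape.up ℤ) n).mapCocone c) := fun n =>
    isColimitOfPreserves (eval A (ComplexShape.up ℤ) n) (HomologicalComplex.isColimitCoconeOfHasColimitEval F)
  have hci : ∀ n r, max (R n) (R (n - 1)) ≤ r → IsIso ((c.ι.app r).f n) := fun n r hr =>
    (hconst n).isIso_ι_of_isColimit' (hc n) r (homOfLE hr)
  refine ⟨c.pt, c.ι.app 0, ?_, fun n => ?_⟩
  · rw [quasiIso_iff]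
    intro n
    let r := max (max (max (R n) (R (n - 1))) (max (R (n - 1 - 1)) (R (n + 1)))) 0
    have hq' : ∀ r, QuasiIso (F.map (homOfLE (Nat.zero_le r))) := fun r => by
      induction r with
      | zero =>
          rw [show homOfLE (Nat.zero_le 0) = 𝟙 (0 : ℕ) from rfl, F.map_id]
          infer_instance
      | succ r ih =>
        rw [← homOfLE_comp (Nat.zero_le r) (Nat.le_succ r), F.map_comp, hsucc]
        haveI : QuasiIso (φ (C r)) := hq (C r)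
        haveI : QuasiIso (F.map (homOfLE (Nat.zero_le r))) := ih
        exact quasiIso_comp (F.map (homOfLE (Nat.zero_le r))) (show F.obj r ⟶ F.obj (r + 1) from φ (C r)) (hφ := ih) (hφ' := hq (C r))
    haveI := hq' r
    rw [← c.w (homOfLE (Nat.zero_le r))]
    haveI : QuasiIsoAt (c.ι.app r) n := by
      rw [quasiIsoAt_iff' _ (n - 1) n (n + 1) (by simp) (by simp)]
      haveI := hci (n - 1) r (by omega)
      haveI := hci n r (by omega)
      haveI := hci (n + 1) r (by simp only [add_sub_cancel_right]; omega)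
      let τ := (shortComplexFunctor' A (ComplexShape.up ℤ) (n - 1) n (n + 1)).map (c.ι.app r)
      haveI : Epi τ.τ₁ := inferInstanceAs (Epi ((c.ι.app r).f (n - 1)))
      haveI : IsIso τ.τ₂ := inferInstanceAs (IsIso ((c.ι.app r).f n))
      haveI : Mono τ.τ₃ := inferInstanceAs (Mono ((c.ι.app r).f (n + 1)))
      exact ShortComplex.quasiIso_of_epi_of_isIso_of_mono τ
    haveI : QuasiIsoAt (F.map (homOfLE (Nat.zero_le r))) n := inferInstance
    exact quasiIsoAt_comp (F.map (homOfLE (Nat.zero_le r))) (c.ι.app r) n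
  · haveI := hci n _ le_rfl
    exact (hiso ⟨asIso ((c.ι.app (max (R n) (R (n - 1)))).f n)⟩).symm.trans (hR n _ (le_max_left _ _))

end DimZeroLib
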